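import Mathlib

set_option autoImplicit false

namespace Cfsg.Agent.C11
namespace Q5

open Subgroup

variable {Γ : Type*} [Group Γ] [Finite Γ]

theorem fm (Q : Subgroup Γ) {u : Γ} {r : ℕ} [Fact r.Prime] (hQ : ∀ x ∈ Q, u * x * u⁻¹ ∈ Q)
    (hu : ∀ x ∈ Q, Commute (u ^ r) x) :
    Nat.card Q ≡ Nat.card (Q ⊓ centralizer {u} : Subgroup Γ) [MOD r] := by
  classical
  have := Fintype.ofFinite Q
  let f : Function.End Q := fun x => ⟨u * x * u⁻¹, hQ _ x.2⟩
  have k : ∀ (n : ℕ) (x : Q), ((f ^ n) x : Γ) = u ^ n * x * (u ^ n)⁻¹ := by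
    intro n
    induction n with
    | zero => intro x; simp; rfl
    | succ n ih =>
      intro x
      rw [pow_succ, pow_succ]
      change ((f ^ n) (f x) : Γ) = _
      rw [ih]; simp only [f]; group
  have hf : f ^ r ^ 1 = 1 := by
    funext x
    apply Subtype.ext
    rw [pow_one, k, (hu _ x.2).eq, mul_inv_cancel_right]; rfl
  have h1 := Equiv.Perm.card_fixedPoints_modEq hf
  rw [← Nat.card_eq_fintype_card, ← Nat.card_eq_fintype_card] at h1
  convert h1 using 1
  refine Nat.card_congr ⟨fun x => ⟨⟨x.1, x.2.1⟩, Subtype.ext ?_⟩, fun x => ⟨x.1.1, x.1.2, ?_⟩,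
    fun _ => rfl, fun _ => rfl⟩
  · have := mem_centralizer_singleton_iff.1 x.2.2
    change u * x.1 * u⁻¹ = x.1
    rw [← this, mul_inv_cancel_right]
  · have : u * x.1.1 * u⁻¹ = x.1.1 := congrArg Subtype.val x.2
    exact mem_centralizer_singleton_iff.2 (by rw [mul_inv_eq_iff_eq_mul] at this; exact this.symm)

omit [Finite Γ] in
theorem cj_pow {u x : Γ} {k : ℕ} (h : u * x * u⁻¹ = x ^ k) (n : ℕ) :
    u ^ n * x * (u ^ n)⁻¹ = x ^ k ^ n := by
  induction n with
  | zero => simp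
  | succ n ih =>
    rw [pow_succ' u, pow_succ' k, pow_mul, ← h, conj_pow, ← ih]; group

omit [Finite Γ] in
theorem cm5 {u x : Γ} {k : ℕ} (h : u * x * u⁻¹ = x ^ k) (hx : x ^ 11 = 1) (hk : k ^ 5 % 11 = 1) :
    Commute (u ^ 5) x := by
  have := cj_pow h 5
  rw [← Nat.div_add_mod (k ^ 5) 11, pow_add, pow_mul, hx, one_pow, one_mul, hk, pow_one,
    mul_inv_eq_iff_eq_mul] at this
  exact this

omit [Finite Γ] in
theorem cm_cj {u x a : Γ} {k : ℕ} (h : u * x * u⁻¹ = x ^ k) (hx : x ^ 11 = 1) (hk : k ^ 5 % 11 = 1)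
    (ha : Commute a x) : Commute (u * a * u⁻¹) x := by
  have e : Commute (u * a * u⁻¹) (x ^ k) := by
    rw [← h]; exact ha.conj u
  have := e.pow_right (k ^ 4)
  rwa [← pow_mul, ← pow_succ', ← Nat.div_add_mod (k ^ (4 + 1)) 11, pow_add, pow_mul, hx, one_pow,
    one_mul, hk, pow_one] at this

/-- the elements of `S` of exponent `n` commuting with `d` -/
def Ex (S : Subgroup Γ) (d : Γ) (hC : ∀ a b, Commute a d → Commute b d → Commute a b) (n : ℕ) :
    Subgroup Γ where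
  carrier := {a | a ∈ S ∧ Commute a d ∧ a ^ n = 1}
  one_mem' := ⟨S.one_mem, Commute.one_left _, one_pow _⟩
  mul_mem' := fun {a b} ha hb => ⟨S.mul_mem ha.1 hb.1, ha.2.1.mul_left hb.2.1, by
    rw [(hC a b ha.2.1 hb.2.1).mul_pow, ha.2.2, hb.2.2, one_mul]⟩
  inv_mem' := fun {a} ha => ⟨S.inv_mem ha.1, ha.2.1.inv_left, by rw [inv_pow, ha.2.2, inv_one]⟩

theorem Ex_card {S : Subgroup Γ} {d : Γ} (hC : ∀ a b, Commute a d → Commute b d → Commute a b)
    (n : ℕ) [Fact n.Prime] : ∃ j, Nat.card (Ex S d hC n) = n ^ j ∧ n ^ j ∣ Nat.card S := by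
  have : IsPGroup n (Ex S d hC n) := fun a => ⟨1, Subtype.ext (by simpa using a.2.2.2)⟩
  obtain ⟨j, hj⟩ := IsPGroup.iff_card.1 this
  exact ⟨j, hj, hj ▸ card_dvd_of_le fun a ha => ha.1⟩

theorem Ex2 {S : Subgroup Γ} [hS : S.Normal] {d x u : Γ} {k : ℕ}
    (hC : ∀ a b, Commute a d → Commute b d → Commute a b) (hd : Commute x d)
    (hx : ∀ a, Commute a x → Commute a d) (h : u * x * u⁻¹ = x ^ k) (h11 : x ^ 11 = 1)
    (hk : k ^ 5 % 11 = 1) (hF : ∀ y, Commute y d → y ^ 2 = 1 → Commute y u → y = 1) :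
    Nat.card (Ex S d hC 2) % 5 = 1 := by
  have : Fact (Nat.Prime 5) := ⟨by norm_num⟩
  have := fm (Ex S d hC 2) (u := u) (r := 5) (fun a ha => ⟨hS.conj_mem _ ha.1 _,
    hx _ (cm_cj h h11 hk (hC _ _ ha.2.1 hd)), by rw [conj_pow, ha.2.2]; simp⟩)
    (fun a ha => hC _ _ (hx _ (cm5 h h11 hk)) ha.2.1)
  have e : (Ex S d hC 2 ⊓ centralizer {u} : Subgroup Γ) = ⊥ :=
    eq_bot_iff.2 fun a ha => hF a ha.1.2.1 ha.1.2.2 (mem_centralizer_singleton_iff.1 ha.2)
  rw [e, card_bot] at this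
  exact this

set_option maxHeartbeats 1000000 in
theorem abs (S : Subgroup Γ) [hS : S.Normal] [IsSimpleGroup S] {d m : Γ} (hd : d ^ 11 = 1)
    (hm : m * d * m⁻¹ = d ^ 3) (hC : ∀ a b, Commute a d → Commute b d → Commute a b)
    (h22 : ∀ a, Commute a d → a ^ 22 = 1)
    (hF : ∀ y, Commute y d → y ^ 2 = 1 → Commute y m → y = 1)
    (hX : ∀ x, Commute x d → x ^ 11 = 1 → x ≠ 1 → ∀ k : ℕ, m * x * m⁻¹ = x ^ k →
      (∀ a, Commute a x → Commute a d) ∧ ∀ (u : Γ) (k : ℕ), u * x * u⁻¹ = x ^ k → k ^ 5 % 11 = 1 ∧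
        (¬ Commute u x → ∀ y, Commute y d → y ^ 2 = 1 → Commute y u → y = 1))
    (hc : Nat.card S = 660 ∨ Nat.card S = 7920 ∨ Nat.card S = 25920) :
    Nat.card S ≠ 25920 ∧ ∀ y : Γ, y * y = 1 → y ∈ S := by
  have f11 : Fact (Nat.Prime 11) := ⟨by norm_num⟩
  have f1 := fm S (u := d) (r := 11) (fun a ha => hS.conj_mem _ ha _) (fun a _ => by
    rw [hd]; exact Commute.one_left _)
  have n1 : Nat.card S ≠ 25920 := by
    intro e
    have e1 : (S ⊓ centralizer {d} : Subgroup Γ) = Ex S d hC 2 := by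
      ext a
      refine ⟨fun ha => ?_, fun ha => ⟨ha.1, mem_centralizer_singleton_iff.2 ha.2.1⟩⟩
      have c : Commute a d := mem_centralizer_singleton_iff.1 ha.2
      refine ⟨ha.1, c, ?_⟩
      have : a ^ 25920 = 1 := by
        have := congrArg Subtype.val (pow_card_eq_one' (x := (⟨a, ha.1⟩ : S)))
        rw [e] at this
        simpa using this
      exact (pow_gcd_eq_one (m := 22) (n := 25920)).2 ⟨h22 a c, this⟩
    have e2 := Ex2 (S := S) hC (Commute.refl d) (fun _ h => h) hm hd (by norm_num) hF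
    obtain ⟨j, j1, j2⟩ := Ex_card (S := S) hC 2
    rw [e1, e, j1] at f1
    rw [j1] at e2
    rw [e] at j2
    have : j < 7 := by
      by_contra! hh
      exact absurd ((pow_dvd_pow 2 hh).trans j2) (by norm_num)
    revert f1 e2
    interval_cases j <;> decide
  refine ⟨n1, ?_⟩
  replace hc := hc.imp_right fun h => h.resolve_right n1
  have d11 : 11 ∣ Nat.card (S ⊓ centralizer {d} : Subgroup Γ) :=
    (f1.dvd_iff (dvd_refl _)).1 (by rcases hc with e | e <;> rw [e] <;> norm_num)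
  obtain ⟨⟨x, x12⟩, hx⟩ := exists_prime_orderOf_dvd_card' 11 d11
  rw [orderOf_mk] at hx
  have x1 : x ∈ S := x12.1
  have x2 : Commute x d := mem_centralizer_singleton_iff.1 x12.2
  clear x12
  have x11 : x ^ 11 = 1 := hx ▸ pow_orderOf_eq_one x
  have x0 : x ≠ 1 := by rintro rfl; simp at hx
  have xT : x ∈ Ex S d hC 11 := ⟨x1, x2, x11⟩
  have cT : Nat.card (Ex S d hC 11) = 11 := by
    obtain ⟨j, j1, j2⟩ := Ex_card (S := S) hC 11
    have : j < 2 := by
      by_contra! hh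
      have := (pow_dvd_pow 11 hh).trans j2
      rcases hc with e | e <;> rw [e] at this <;> norm_num at this
    have j0 : j ≠ 0 := by
      rintro rfl
      exact x0 (mem_bot.1 (card_eq_one.1 j1 ▸ xT))
    rw [j1, show j = 1 by omega, pow_one]
  have pw : ∀ z ∈ Ex S d hC 11, ∃ k : ℕ, z = x ^ k := fun z hz => by
    obtain ⟨k, hk⟩ := mem_powers_of_prime_card cT (g := ⟨x, xT⟩) (g' := ⟨z, hz⟩)
      (fun e => x0 (congrArg Subtype.val e))
    exact ⟨k, (congrArg Subtype.val hk).symm⟩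
  obtain ⟨k0, hk0⟩ := pw (m * x * m⁻¹) ⟨hS.conj_mem _ x1 _, cm_cj hm hd (by norm_num) x2, by
    rw [conj_pow, x11]; simp⟩
  obtain ⟨X1, X2⟩ := hX x x2 x11 x0 k0 hk0
  have cT' : Nat.card ((Ex S d hC 11).subgroupOf S) = 11 :=
    (Nat.card_congr (subgroupOfEquivOfLe fun a (ha : a ∈ Ex S d hC 11) => ha.1).toEquiv).trans cT
  let T : Sylow 11 S := Sylow.ofCard ((Ex S d hC 11).subgroupOf S) (by
    rw [cT']
    rcases hc with e | e <;> rw [e]
    · rw [show 660 = 11 * 60 by norm_num, Nat.factorization_mul (by norm_num) (by norm_num)]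
      simp [f11.out.factorization_self, Nat.factorization_eq_zero_of_not_dvd]
    · rw [show 7920 = 11 * 720 by norm_num, Nat.factorization_mul (by norm_num) (by norm_num)]
      simp [f11.out.factorization_self, Nat.factorization_eq_zero_of_not_dvd])
  have mT : ∀ a : S, a ∈ (T : Subgroup S) ↔ a.1 ∈ Ex S d hC 11 := fun a => Iff.rfl
  have cT2 : Nat.card (T : Subgroup S) = 11 := cT'
  have nn : ¬ (T : Subgroup S).Normal := fun hn => by
    rcases hn.eq_bot_or_eq_top with e | e <;> rw [e] at cT2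
    · simp at cT2
    · rw [card_top] at cT2; omega
  obtain ⟨ν, ν1, ν2⟩ : ∃ ν : S, ν ∈ normalizer ((T : Subgroup S) : Set S) ∧ ¬ Commute ν.1 x := by
    by_contra! hh
    have hP : normalizer ((T : Subgroup S) : Set S) ≤ centralizer ((T : Subgroup S) : Set S) :=
      fun a ha b hb => Subtype.ext (hC _ _ ((mT b).1 hb).2.1 (X1 _ (hh a ha))).eq
    have := (MonoidHom.ker_transferSylow_isComplement' T hP).card_mul
    rw [cT2] at this
    rcases (MonoidHom.normal_ker (MonoidHom.transferSylow T hP)).eq_bot_or_eq_top with e | e <;>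
      rw [e] at this
    · rw [card_bot] at this; omega
    · rw [card_top] at this; omega
  obtain ⟨k, hk⟩ := pw (ν.1 * x * ν.1⁻¹) ((mT _).1 ((mem_normalizer_iff.1 ν1 ⟨x, x1⟩).1 xT))
  obtain ⟨k5, F5⟩ := X2 _ _ hk
  have C2 : ∀ y, Commute y d → y ^ 2 = 1 → y = 1 := by
    intro y y1 y2
    by_contra y0
    have c1 : Commute (ν.1 * y⁻¹ * ν.1⁻¹) d := X1 _ (cm_cj hk x11 k5 (hC _ _ y1 x2).inv_left)
    have z1 : y * (ν.1 * y⁻¹ * ν.1⁻¹) ∈ Ex S d hC 2 := ⟨by
      have := S.mul_mem (hS.conj_mem _ ν.2 y) (S.inv_mem ν.2)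
      simpa only [mul_assoc] using this, y1.mul_left c1, by
        rw [(hC _ _ y1 c1).mul_pow, y2, conj_pow, inv_pow, y2]; simp⟩
    have z0 : y * (ν.1 * y⁻¹ * ν.1⁻¹) ≠ 1 := fun e => y0 (F5 ν2 y y1 y2 (by
      rw [← commutatorElement_eq_one_iff_commute, commutatorElement_def, ← e]; group))
    have e2 := Ex2 (S := S) hC x2 X1 hk x11 k5 (F5 ν2)
    obtain ⟨j, j1, -⟩ := Ex_card (S := S) hC 2
    have j0 : j ≠ 0 := by
      rintro rfl
      exact z0 (mem_bot.1 (card_eq_one.1 j1 ▸ z1))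
    have j4 : 4 ≤ j := by
      by_contra! hh
      rw [j1] at e2
      revert e2 j0
      clear j1
      interval_cases j <;> decide
    set N := normalizer ((T : Subgroup S) : Set S) with hN
    have a1 : 16 ∣ Nat.card N := by
      have l : (Ex S d hC 2).subgroupOf S ≤ N := fun a ha => by
        refine centralizer_le_normalizer _ fun b hb => Subtype.ext ?_
        exact (hC _ _ ((mT b).1 hb).2.1 ha.2.1).eq
      have := card_dvd_of_le l
      rw [Nat.card_congr (subgroupOfEquivOfLe fun a (ha : a ∈ Ex S d hC 2) => ha.1).toEquiv, j1] at this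
      exact (pow_dvd_pow 2 j4).trans this
    have a2 : 11 ∣ Nat.card N := cT2 ▸ card_dvd_of_le le_normalizer
    have a3 : 5 ∣ Nat.card N := by
      by_contra hh
      have cop : Nat.Coprime 5 (orderOf ν.1) := by
        refine ((Nat.Prime.coprime_iff_not_dvd (by norm_num)).2 hh).coprime_dvd_right ?_
        rw [orderOf_coe]
        exact N.orderOf_dvd_natCard ν1
      obtain ⟨t, ht⟩ := exists_pow_eq_self_of_coprime cop
      exact ν2 (ht ▸ (cm5 hk x11 k5).pow_left t)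
    have a4 : 880 ∣ Nat.card N :=
      Nat.Coprime.mul_dvd_of_dvd_of_dvd (m := 176) (n := 5) (by norm_num)
        (Nat.Coprime.mul_dvd_of_dvd_of_dvd (m := 16) (n := 11) (by norm_num) a1 a2) a3
    have a5 := card_sylow_modEq_one 11 S
    rw [T.card_eq_index_normalizer] at a5
    have a6 := N.card_mul_index
    obtain ⟨t, ht⟩ := a4
    have a7 : N.index ≠ 1 := fun e => nn (normalizer_eq_top_iff.1 (index_eq_one.1 e))
    change N.index % 11 = 1 at a5
    rw [ht, mul_assoc] at a6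
    rcases hc with e | e <;> rw [e] at a6
    · omega
    · have : N.index ∣ 9 := Dvd.intro_left t (by omega)
      have := Nat.le_of_dvd (by norm_num) this
      omega
  intro y hy
  have p1 : IsPGroup 11 (zpowers (⟨y * x * y⁻¹, hS.conj_mem _ x1 _⟩ : S)) := by
    refine IsPGroup.of_card (n := 1) ?_
    rw [Nat.card_zpowers, orderOf_mk, pow_one]
    refine orderOf_eq_prime (by rw [conj_pow, x11]; simp) (by simpa using x0)
  obtain ⟨Q, hQ⟩ := p1.exists_le_sylow
  obtain ⟨s, hs⟩ := MulAction.exists_smul_eq S Q T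
  have m1 : s * ⟨y * x * y⁻¹, hS.conj_mem _ x1 _⟩ * s⁻¹ ∈ (T : Subgroup S) := by
    rw [← hs, Sylow.coe_subgroup_smul]
    exact smul_mem_pointwise_smul _ (MulAut.conj s) _ (hQ (mem_zpowers _))
  obtain ⟨k', hk'⟩ := pw _ ((mT _).1 m1)
  have e1 : s.1 * y * x * (s.1 * y)⁻¹ = x ^ k' := by
    rw [← hk']; simp only [coe_mul, coe_inv]; group
  have c5 := X1 _ (cm5 e1 x11 (X2 _ _ e1).1)
  have e55 := C2 _ (c5.pow_left 11) (by rw [← pow_mul]; exact h22 _ c5)
  rw [← pow_mul] at e55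
  have q1 := congrArg (QuotientGroup.mk' S) e55
  have q2 := congrArg (QuotientGroup.mk' S) hy
  rw [map_pow, map_mul, map_one, show QuotientGroup.mk' S s.1 = 1 from
    (QuotientGroup.eq_one_iff _).2 s.2, one_mul] at q1
  rw [map_mul, map_one, ← sq] at q2
  have := (pow_gcd_eq_one (m := 2) (n := 5 * 11)).2 ⟨q2, q1⟩
  exact (QuotientGroup.eq_one_iff _).1 (by simpa using this)

end Q5
end Cfsg.Agent.C11
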