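import Cfsg.Agent.C11.M5
import Cfsg.Agent.C11.Q5a

set_option autoImplicit false
open Matrix

namespace Cfsg.Agent.C11
namespace Q5

open Cfsg.Geo Cfsg.Agent.Asch

def ee (k b : Fin 11) : Fin 5 → Fin 11 :=
  ![0, k * (k * (k * b + b) + b) + b, k * b + b, k * (k * b + b) + b, b]

theorem chk : ∀ k b : Fin 11, k * ee k b 1 + b = 0 → b ≠ 0 → (∀ i j, ee k b i = ee k b j → i = j) ∧
    ∀ k' b' : Fin 11, k' ≠ 0 → (∀ i, ∃ j, ee k b j = k' * ee k b i + b') →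
      k'.1 ^ 5 % 11 = 1 ∧ (k' ≠ 1 → (fun z => k' * z + b')^[5] 0 = 0 ∧
        ∀ i, ∃ n : Fin 5, (fun z => k' * z + b')^[n] 0 = ee k b i) := by decide +kernel

variable {F : Type*} [Field F] {ζ : F}

abbrev N5 (F : Type*) [Field F] := GL (Fin 5) F

/-- a character of `Fin 11` -/
def ch (ζ : F) (x : Fin 11) : F := ζ ^ (x : ℕ)

theorem ch_add (h : ζ ^ 11 = 1) (x y : Fin 11) : ch ζ (x + y) = ch ζ x * ch ζ y := by
  rw [ch, ch, ch, ← pow_add, Fin.val_add, ← pow_eq_pow_mod _ h]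

theorem ch_pow (h : ζ ^ 11 = 1) (n : ℕ) (x : Fin 11) : ch ζ x ^ n = ch ζ (Fin.ofNat 11 n * x) := by
  rw [ch, ch, ← pow_mul, Fin.val_mul, ← pow_eq_pow_mod _ h, Fin.val_ofNat, mul_comm, pow_mul,
    pow_mul, ← pow_eq_pow_mod _ h]

theorem ch_inj (h : IsPrimitiveRoot ζ 11) {x y : Fin 11} (e : ch ζ x = ch ζ y) : x = y :=
  Fin.ext (h.pow_inj x.2 y.2 e)

theorem ex_ch (h : IsPrimitiveRoot ζ 11) {a : F} (e : a ^ 11 = 1) : ∃ x, a = ch ζ x := by
  obtain ⟨i, hi, rfl⟩ := h.eq_pow_of_pow_eq_one e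
  exact ⟨⟨i, hi⟩, rfl⟩

theorem row (g : N5 F) : ∃ τ : Fin 5 → Fin 5, ∀ i, g.1 i (τ i) ≠ 0 := by
  have : ∀ i, ∃ j, g.1 i j ≠ 0 := fun i => by
    by_contra! hh
    have := congrFun (congrFun g.mul_inv i) i
    simp [mul_apply, hh] at this
  exact ⟨_, fun i => (this i).choose_spec⟩

theorem rel {g : Matrix (Fin 5) (Fin 5) F} {s s' : Fin 5 → F} {c : F}
    (h : g * diagonal s = c • (diagonal s' * g)) {i j : Fin 5} (h0 : g i j ≠ 0) : s j = c * s' i := by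
  have := congrFun (congrFun h i) j
  simp only [mul_diagonal, Matrix.smul_apply, diagonal_mul, smul_eq_mul] at this
  exact mul_left_cancel₀ h0 (by linear_combination this)

theorem nz {x : N5 F} {f : Fin 5 → F} (h : x.1 = diagonal f) (i : Fin 5) : f i ≠ 0 := fun e => by
  have := congrFun (congrFun x.mul_inv i) i
  rw [h] at this
  simp [diagonal_mul, e] at this

theorem dia {a x : N5 F} {f : Fin 5 → F} {c t : F} (hx : x.1 = diagonal f) (hf : Function.Injective f)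
    (ht : ∀ i, f i ^ 11 = t) (h : a.1 * x.1 = c • (x.1 * a.1)) : ∃ s, a.1 = diagonal s := by
  have c5 : c ^ 5 = 1 := by
    have := congrArg det h
    rw [det_smul, det_mul, det_mul, Fintype.card_fin] at this
    exact mul_right_cancel₀ (mul_ne_zero x.det_ne_zero a.det_ne_zero) (by linear_combination -this)
  rw [hx] at h
  obtain ⟨τ, hτ⟩ := row a
  have c11 : c ^ 11 = 1 := by
    have := congrArg (· ^ 11) (rel h (hτ 0))
    simp only [mul_pow, ht] at this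
    exact mul_right_cancel₀ (ht 0 ▸ pow_ne_zero 11 (nz hx 0)) (by linear_combination -this)
  have c1 : c = 1 := by simpa using (pow_gcd_eq_one (m := 5) (n := 11)).2 ⟨c5, c11⟩
  refine ⟨fun i => a.1 i i, ?_⟩
  ext i j
  rw [diagonal_apply]
  split_ifs with e
  · rw [e]
  · by_contra h0
    exact e (hf (by rw [rel h h0, c1, one_mul])).symm

theorem expo (h : IsPrimitiveRoot ζ 11) {f : Fin 5 → F} {e : Fin 5 → Fin 11} (h0 : f 0 ≠ 0)
    (he : ∀ i, f i = f 0 * ch ζ (e i)) (e0 : e 0 = 0) {τ : Fin 5 → Fin 5} {c : F} {k : ℕ}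
    (hr : ∀ i, f (τ i) = c * f i ^ k) (i : Fin 5) : e (τ i) = Fin.ofNat 11 k * e i + e (τ 0) := by
  refine ch_inj h (mul_left_cancel₀ h0 ?_)
  rw [← he, ch_add h.pow_eq_one, ← ch_pow h.pow_eq_one, hr, mul_left_comm, ← he, hr, he i]
  ring

variable {H : Subgroup (N5 F)} {δ ω μ : N5 F}

/-- the projection -/
abbrev pr (H : Subgroup (N5 F)) := QuotientGroup.mk' ((scalars (Fin 5) F).subgroupOf H)

theorem pr_eq {a b : H} : pr H a = pr H b ↔ ∃ c : F, a.1.1 = c • b.1.1 := by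
  rw [QuotientGroup.mk'_apply, QuotientGroup.mk'_apply, QuotientGroup.eq_iff_div_mem,
    Subgroup.mem_subgroupOf]
  constructor
  · intro h
    obtain ⟨c, hc⟩ := (mem_scalars_iff _).1 h
    refine ⟨c, ?_⟩
    have : a.1 = (a / b).1 * b.1 := by simp
    rw [this, Units.val_mul, hc, smul_mul_assoc, one_mul]
  · rintro ⟨c, hc⟩
    refine mem_scalars_of_eq_smul (c := c) ?_
    rw [Subgroup.coe_div, div_eq_mul_inv, Units.val_mul, hc, smul_mul_assoc, Units.mul_inv]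

theorem pr_cm {a b : H} : Commute (pr H a) (pr H b) ↔ ∃ c : F, a.1.1 * b.1.1 = c • (b.1.1 * a.1.1) := by
  rw [Commute, SemiconjBy, ← map_mul, ← map_mul, pr_eq]; rfl

theorem pr_pow {a : H} {s : Fin 5 → F} (h : a.1.1 = diagonal s) {n : ℕ} (e : pr H a ^ n = 1) :
    ∃ t, ∀ i, s i ^ n = t := by
  rw [← map_pow, ← map_one (pr H), pr_eq] at e
  obtain ⟨c, hc⟩ := e
  refine ⟨c, fun i => ?_⟩
  have := congrFun (congrFun hc i) i
  simpa [h, diagonal_pow] using this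

theorem pr_cj {u x : H} {f : Fin 5 → F} (h : x.1.1 = diagonal f) {k : ℕ}
    (e : pr H u * pr H x * (pr H u)⁻¹ = pr H x ^ k) :
    ∃ c : F, u.1.1 * diagonal f = c • (diagonal (fun i => f i ^ k) * u.1.1) := by
  rw [mul_inv_eq_iff_eq_mul, ← map_pow, ← map_mul, ← map_mul, pr_eq] at e
  obtain ⟨c, hc⟩ := e
  refine ⟨c, ?_⟩
  simpa [h, diagonal_pow, Pi.pow_def] using hc

theorem pr_one {a : H} {s : Fin 5 → F} (h : a.1.1 = diagonal s) (e : ∀ i, s i = s 0) : pr H a = 1 := by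
  rw [← map_one (pr H), pr_eq]
  exact ⟨s 0, by rw [h, show s = fun _ => s 0 from funext e]; simp [smul_one_eq_diagonal]⟩

theorem cd (h : H5 ζ H δ ω μ) {a : H} :
    Commute (pr H a) (pr H ⟨δ, h.hδ⟩) ↔ ∃ s, a.1.1 = diagonal s := by
  rw [pr_cm]
  constructor
  · rintro ⟨c, hc⟩
    refine dia (t := 1) h.d (fun i j e => ?_) (fun i => ?_) hc
    · simp only [pow_eq_pow_mod (((i : ℕ) + 1) ^ 2) h.prim.pow_eq_one,
        pow_eq_pow_mod (((j : ℕ) + 1) ^ 2) h.prim.pow_eq_one] at e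
      have := h.prim.pow_inj (Nat.mod_lt _ (by norm_num)) (Nat.mod_lt _ (by norm_num)) e
      clear e
      revert i j; decide
    · rw [← pow_mul, mul_comm, pow_mul, h.prim.pow_eq_one, one_pow]
  · rintro ⟨s, hs⟩
    exact ⟨1, by rw [one_smul, hs]; change _ * δ.1 = δ.1 * _; rw [h.d]; exact commute_diagonal _ _⟩

theorem hX (h : H5 ζ H δ ω μ) (x : H) (x1 : Commute (pr H x) (pr H ⟨δ, h.hδ⟩))
    (x2 : pr H x ^ 11 = 1) (x3 : pr H x ≠ 1) (k : ℕ)
    (x4 : pr H ⟨μ, h.hμ⟩ * pr H x * (pr H ⟨μ, h.hμ⟩)⁻¹ = pr H x ^ k) :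
    (∀ a, Commute (pr H a) (pr H x) → Commute (pr H a) (pr H ⟨δ, h.hδ⟩)) ∧
    ∀ (u : H) (k : ℕ), pr H u * pr H x * (pr H u)⁻¹ = pr H x ^ k → k ^ 5 % 11 = 1 ∧
      (¬ Commute (pr H u) (pr H x) → ∀ y, Commute (pr H y) (pr H ⟨δ, h.hδ⟩) → pr H y ^ 2 = 1 →
        Commute (pr H y) (pr H u) → pr H y = 1) := by
  obtain ⟨f, hf⟩ := (cd h).1 x1
  obtain ⟨t, ht⟩ := pr_pow hf x2
  have f0 := nz hf
  have : ∀ i, ∃ z, f i = f 0 * ch ζ z ∧ (i = 0 → z = 0) := fun i => by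
    obtain ⟨z, hz⟩ := ex_ch h.prim (a := f i / f 0) (by
      rw [div_pow, ht, ht, div_self (ht 0 ▸ pow_ne_zero _ (f0 0))])
    refine ⟨z, by rw [← hz, mul_div_cancel₀ _ (f0 0)], ?_⟩
    rintro rfl
    exact ch_inj h.prim (by rw [← hz, div_self (f0 0)]; simp [ch])
  choose e he e0 using this
  replace e0 := e0 0 rfl
  obtain ⟨σ, hσ⟩ := row μ
  have m1 : μ.1 * δ.1 = (1 : F) • (δ.1 ^ 3 * μ.1) := by
    rw [one_smul, ← Units.val_pow_eq_pow_val, ← h.m]; simp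
  rw [h.d, diagonal_pow] at m1
  have s1 : ∀ i, σ i = ![4, 0, 3, 1, 2] i := fun i => by
    have e := rel m1 (hσ i)
    simp only [one_mul, Pi.pow_apply, ← pow_mul] at e
    rw [pow_eq_pow_mod _ h.prim.pow_eq_one, pow_eq_pow_mod (_ * 3) h.prim.pow_eq_one] at e
    have := h.prim.pow_inj (Nat.mod_lt _ (by norm_num)) (Nat.mod_lt _ (by norm_num)) e
    clear e
    generalize σ i = j at this
    revert i j; decide
  obtain ⟨c, hc⟩ := pr_cj hf x4
  have r := expo h.prim (f0 0) he e0 fun i => rel hc (hσ i)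
  simp only [s1] at r
  have r1 := r 1; have r2 := r 2; have r3 := r 3; have r4 := r 4
  simp only [cons_val] at r1 r2 r3 r4
  have E : e = ee (Fin.ofNat 11 k) (e 4) := by
    rw [ee, ← r4, ← r2, ← r3, ← e0]
    funext i
    fin_cases i <;> rfl
  obtain ⟨k1, k2⟩ := chk (Fin.ofNat 11 k) (e 4) (by rw [← E, ← r1, e0]) (fun e4 => x3 (pr_one hf
    fun i => by
      rw [he i, E, e4]
      fin_cases i <;> simp [ee, ch]))
  rw [← E] at k1 k2
  have fi : Function.Injective f := fun i j hij => k1 i j (ch_inj h.prim (mul_left_cancel₀ (f0 0)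
    (by rw [← he, ← he, hij])))
  refine ⟨fun a ha => ?_, fun u k' hu => ?_⟩
  · obtain ⟨c, hc⟩ := pr_cm.1 ha
    exact (cd h).2 (dia hf fi ht hc)
  obtain ⟨τ, hτ⟩ := row u.1
  obtain ⟨c', hc'⟩ := pr_cj hf hu
  have r' := expo h.prim (f0 0) he e0 fun i => rel hc' (hτ i)
  have hm : pr H x ^ k' = pr H x ^ (Fin.ofNat 11 k').1 := pow_eq_pow_mod _ x2
  obtain ⟨l1, l2⟩ := k2 (Fin.ofNat 11 k') (e (τ 0)) (fun e1 => x3 (by
    rw [hm, e1] at hu; simpa using hu)) fun i => ⟨_, r' i⟩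
  refine ⟨by rw [Nat.pow_mod]; rw [Fin.val_ofNat] at l1; exact l1, fun hn y y1 y2 y3 => ?_⟩
  obtain ⟨l3, l4⟩ := l2 fun e1 => hn (by
    rw [hm, e1, mul_inv_eq_iff_eq_mul] at hu; simpa [Commute, SemiconjBy] using hu)
  have it : ∀ n, e (τ^[n] 0) = (fun z => Fin.ofNat 11 k' * z + e (τ 0))^[n] 0 := fun n => by
    induction n with
    | zero => exact e0
    | succ n ih => rw [Function.iterate_succ_apply', Function.iterate_succ_apply', r', ih]
  obtain ⟨s, hs⟩ := (cd h).1 y1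
  obtain ⟨a, ha⟩ := pr_pow hs y2
  obtain ⟨b, hb⟩ := pr_cm.1 y3.symm
  rw [hs] at hb
  have q : ∀ n, s (τ^[n] 0) = b ^ n * s 0 := fun n => by
    induction n with
    | zero => simp
    | succ n ih => rw [Function.iterate_succ_apply', rel hb (hτ _), ih]; ring
  have s0 := nz hs 0
  have b5 : b ^ 5 = 1 := by
    have := q 5
    rw [k1 (τ^[5] 0) 0 (by rw [it, l3, e0])] at this
    exact mul_right_cancel₀ s0 (by linear_combination -this)
  have b2 : b ^ 2 = 1 := by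
    have := congrArg (· ^ 2) (rel hb (hτ 0))
    simp only [mul_pow, ha] at this
    exact mul_right_cancel₀ (ha 0 ▸ pow_ne_zero 2 s0) (by linear_combination -this)
  have b1 : b = 1 := by simpa using (pow_gcd_eq_one (m := 5) (n := 2)).2 ⟨b5, b2⟩
  refine pr_one hs fun i => ?_
  obtain ⟨n, hn⟩ := l4 i
  rw [← k1 (τ^[n] 0) i (by rw [it, hn]), q, b1, one_pow, one_mul]

end Q5

open Q5 Cfsg.Geo Cfsg.Agent.Asch in
theorem q5' {F : Type*} [Field F] [Finite F] {ζ : F} {H P : Subgroup (GL (Fin 5) F)}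
    {δ ω μ : GL (Fin 5) F} (h : H5 ζ H δ ω μ) (hP : QS H P)
    (hc : Nat.card (P ⧸ Subgroup.center P) = 660 ∨ Nat.card (P ⧸ Subgroup.center P) = 7920 ∨
      Nat.card (P ⧸ Subgroup.center P) = 25920) :
    Nat.card (P ⧸ Subgroup.center P) ≠ 25920 ∧ ∀ y ∈ H, y * y ∈ scalars (Fin 5) F →
      ∃ (c : F) (x : GL (Fin 5) F), x ∈ P ∧ y.1 = c • x.1 := by
  have ce : Subgroup.center P = (scalars (Fin 5) F).subgroupOf P := by
    ext g
    refine ⟨fun hg => hP.abs.mem_scalars_of_comm fun x hx => ?_, fun hg => ?_⟩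
    · exact congrArg Subtype.val (Subgroup.mem_center_iff.1 hg ⟨x, hx⟩).symm
    · exact Subgroup.mem_center_iff.2 fun x => Subtype.ext
        (Subgroup.mem_center_iff.1 (scalars_le_center hg) x.1)
  let φ : P →* H ⧸ (scalars (Fin 5) F).subgroupOf H := (pr H).comp (Subgroup.inclusion hP.le)
  have hk : φ.ker = (scalars (Fin 5) F).subgroupOf P := by
    ext g
    exact QuotientGroup.eq_one_iff _
  have ε : P ⧸ (scalars (Fin 5) F).subgroupOf P ≃* φ.range :=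
    (QuotientGroup.quotientMulEquivOfEq hk.symm).trans (QuotientGroup.quotientKerEquivRange φ)
  have := hP.min.isSimpleGroup
  have : IsSimpleGroup φ.range := ε.symm.isSimpleGroup
  have : φ.range.Normal := ⟨by
    rintro _ ⟨x, rfl⟩ g
    obtain ⟨g, rfl⟩ := QuotientGroup.mk'_surjective _ g
    exact ⟨⟨g.1 * x.1 * g.1⁻¹, hP.norm _ g.2 _ x.2⟩, rfl⟩⟩
  have cc : Nat.card (P ⧸ Subgroup.center P) = Nat.card φ.range := by
    rw [← Nat.card_congr ε.toEquiv]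
    exact Nat.card_congr (QuotientGroup.quotientMulEquivOfEq ce).toEquiv
  rw [cc] at hc ⊢
  have sj := QuotientGroup.mk'_surjective ((scalars (Fin 5) F).subgroupOf H)
  have d11 : pr H ⟨δ, h.hδ⟩ ^ 11 = 1 := by
    rw [← map_pow, ← map_one (pr H), pr_eq]
    refine ⟨1, ?_⟩
    change (δ ^ 11).1 = (1 : F) • 1
    rw [Units.val_pow_eq_pow_val, h.d, diagonal_pow, one_smul, ← diagonal_one]
    congr 1
    funext i
    rw [Pi.pow_apply, ← pow_mul, mul_comm, pow_mul, h.prim.pow_eq_one, one_pow]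
  have hm : pr H ⟨μ, h.hμ⟩ * pr H ⟨δ, h.hδ⟩ * (pr H ⟨μ, h.hμ⟩)⁻¹ = pr H ⟨δ, h.hδ⟩ ^ 3 := by
    rw [← map_pow, ← map_inv, ← map_mul, ← map_mul]
    exact congrArg _ (Subtype.ext h.m)
  have d0 : pr H ⟨δ, h.hδ⟩ ≠ 1 := fun e => by
    rw [← map_one (pr H), pr_eq] at e
    obtain ⟨c, e⟩ := e
    change δ.1 = c • 1 at e
    rw [h.d] at e
    have e0 := congrFun (congrFun e 0) 0
    have e1 := congrFun (congrFun e 1) 1
    simp only [diagonal_apply_eq, Matrix.smul_apply, one_apply_eq] at e0 e1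
    have := h.prim.pow_inj (by decide) (by decide) (e0.trans e1.symm)
    revert this; decide
  obtain ⟨a1, a2⟩ := Q5.abs φ.range d11 hm (fun a b ha hb => by
      obtain ⟨a, rfl⟩ := sj a
      obtain ⟨b, rfl⟩ := sj b
      obtain ⟨s, hs⟩ := (cd h).1 ha
      obtain ⟨s', hs'⟩ := (cd h).1 hb
      exact pr_cm.2 ⟨1, by rw [hs, hs', one_smul]; exact commute_diagonal _ _⟩)
    (fun a ha => by
      obtain ⟨a, rfl⟩ := sj a
      obtain ⟨s, hs⟩ := (cd h).1 ha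
      rw [← map_pow]
      refine (QuotientGroup.eq_one_iff _).2 (h.c a.1 a.2 (Units.ext ?_))
      rw [Units.val_mul, Units.val_mul, hs, h.d]; exact commute_diagonal _ _)
    (fun y y1 y2 y3 => by
      obtain ⟨y, rfl⟩ := sj y
      refine ((hX h _ (Commute.refl _) d11 d0 3 hm).2 _ 3 hm).2 (fun e => d0 ?_) y y1 y2 y3
      rw [e.eq, mul_inv_cancel_right] at hm
      have : pr H ⟨δ, h.hδ⟩ ^ 2 = 1 := mul_left_cancel (a := pr H ⟨δ, h.hδ⟩) (by
        rw [← pow_succ', mul_one]; exact hm.symm)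
      simpa using (pow_gcd_eq_one (m := 2) (n := 11)).2 ⟨this, d11⟩)
    (fun x x1 x2 x3 k x4 => by
      obtain ⟨x, rfl⟩ := sj x
      obtain ⟨b1, b2⟩ := hX h x x1 x2 x3 k x4
      refine ⟨fun a => ?_, fun u k hu => ?_⟩
      · obtain ⟨a, rfl⟩ := sj a
        exact b1 a
      · obtain ⟨u, rfl⟩ := sj u
        refine ⟨(b2 u k hu).1, fun hn y => ?_⟩
        obtain ⟨y, rfl⟩ := sj y
        exact (b2 u k hu).2 hn y) hc
  refine ⟨a1, fun y hy y2 => ?_⟩
  obtain ⟨x, hx⟩ := a2 (pr H ⟨y, hy⟩) (by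
    rw [← map_mul]; exact (QuotientGroup.eq_one_iff _).2 y2)
  obtain ⟨c, hc⟩ := pr_eq.1 hx.symm
  exact ⟨c, x.1, x.2, hc⟩

open Cfsg.Geo in
theorem q5 {F : Type*} [Field F] [Finite F] {ζ : F} {H P : Subgroup (GL (Fin 5) F)}
    {δ ω μ : GL (Fin 5) F} (h : H5 ζ H δ ω μ) (hP : QS H P)
    (hc : Nat.card (P ⧸ Subgroup.center P) = 660 ∨ Nat.card (P ⧸ Subgroup.center P) = 7920) :
    ∀ y ∈ H, y * y ∈ scalars (Fin 5) F → ∃ (c : F) (x : GL (Fin 5) F), x ∈ P ∧ y.1 = c • x.1 :=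
  (q5' h hP (hc.imp_right Or.inl)).2

end Cfsg.Agent.C11
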